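import Groth.Agent.ShStabLib.Ell.HN

/-!
# `ℓ`-semistable modules: maps, extensions, the minimal destabilising quotient, `μ`-filtrations
-/

universe u

open CategoryTheory CategoryTheory.Limits AlgebraicGeometry TopologicalSpace
open StabCat (alpha RedLE RedLT RedEq topPart hatSlope)
open Groth.Agent.HilbPolyX
open Groth.Agent.CohDerLib.SubobjJH (second_iso)

set_option linter.style.haveILetI false

noncomputable section

namespace Groth.Agent.ShStabLib.Ell

/-- Two pieces above `R` add up to something above `R`. -/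
theorem redLE_sum' {d : ℕ} {P Q R : Polynomial ℚ} (h : RedLE d R P) (h' : RedLE d R Q) :
    RedLE d R (P + Q) := by
  obtain ⟨N, hN⟩ := h
  obtain ⟨M, hM⟩ := h'
  refine ⟨max N M, fun m hm => ?_⟩
  have h1 := hN m (le_of_max_le_left hm)
  have h2 := hM m (le_of_max_le_right hm)
  simp only [alpha_add, Polynomial.eval_smul, smul_eq_mul, Polynomial.eval_add] at h1 h2 ⊢
  linarith

theorem redLE_zero_left (d : ℕ) (P : Polynomial ℚ) : RedLE d 0 P :=
  redLE_of_eq (by simp [RedEq, alpha])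

theorem redLE_zero_right (d : ℕ) (P : Polynomial ℚ) : RedLE d P 0 :=
  redLE_of_eq (by simp [RedEq, alpha])

theorem redEq_of_hatSlope {d : ℕ} (hd : 1 ≤ d) {P Q : Polynomial ℚ} (hP : 0 < alpha d P)
    (hQ : 0 < alpha d Q) (h : hatSlope d P = hatSlope d Q) :
    RedEq d (topPart 1 d P) (topPart 1 d Q) :=
  redEq_of_le_of_le ((redLE_one_iff hd hP hQ).2 h.le) ((redLE_one_iff hd hQ hP).2 h.ge)

variable {X : Scheme.{u}} {E : X.Modules} {d ℓ : ℕ}
variable (k : Type u) [Field k] [X.Over (Spec (CommRingCat.of k))]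
  [IsProper (X ↘ Spec (CommRingCat.of k))] {L : X.Modules} (hL : CohB1.IsAmple L)

include hL in
theorem alpha_tl_pos_of_isEll {F : X.Modules} (hF : ShStab.IsEllSemistable k X L F d ℓ) :
    0 < alpha d (tl k L d ℓ F) :=
  alpha_tl_pos k hL hF.1 hF.2.1 hF.2.2.1

include hL in
/-- A nonzero map of `ℓ`-semistable modules cannot decrease the reduced truncation. -/
theorem redLE_of_hom_ne_zero {F G : X.Modules} (hF : ShStab.IsEllSemistable k X L F d ℓ)
    (hG : ShStab.IsEllSemistable k X L G d ℓ) (φ : F ⟶ G) (hφ : φ ≠ 0) :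
    RedLE d (tl k L d ℓ F) (tl k L d ℓ G) := by
  obtain ⟨I, p, q, _, _, hI, hI0, -⟩ := exists_image_of_ne_zero k φ hφ hF.1 hG.1
  exact redLE_trans (alpha_tl_pos_of_isEll k hL hF).le
    (alpha_tl_pos k hL hI hI0 (isPure_of_mono hG.2.2.1 q)) (alpha_tl_pos_of_isEll k hL hG).le
    (redLE_of_epi_isEll k hL hF p hI) (redLE_of_mono_isEll k hL hG q hI)

include hL in
/-- An extension of `ℓ`-semistable modules of equal reduced truncation. -/
theorem isEll_of_shortExact {S : ShortComplex X.Modules} (hS : S.ShortExact)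
    (h₁ : ShStab.IsEllSemistable k X L S.X₁ d ℓ) (h₃ : ShStab.IsEllSemistable k X L S.X₃ d ℓ)
    (heq : RedEq d (tl k L d ℓ S.X₁) (tl k L d ℓ S.X₃))
    (hdim : topologicalKrullDim ↥(CohB1.support S.X₂) ≤ (d : WithBot ℕ∞)) :
    ShStab.IsEllSemistable k X L S.X₂ d ℓ ∧
      RedEq d (tl k L d ℓ S.X₂) (tl k L d ℓ S.X₁) := by
  haveI := EulerChar.isNoetherian k (X := X)
  haveI := hS.mono_f
  haveI := hS.epi_g
  have hc : Coh.IsCoh S.X₂ := CohDev.isCoh_of_shortExact hS h₁.1 h₃.1
  have hadd : tl k L d ℓ S.X₂ = tl k L d ℓ S.X₁ + tl k L d ℓ S.X₃ := by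
    simp only [tl, ← topPart_add]
    exact congrArg _ (hilb_add k hL hS h₁.1 hc h₃.1)
  have ha₁ := alpha_tl_pos_of_isEll k hL h₁
  have ha₃ := alpha_tl_pos_of_isEll k hL h₃
  have hsum : RedEq d (tl k L d ℓ S.X₂) (tl k L d ℓ S.X₁) := by
    rw [hadd]
    exact redEq_of_le_of_le (redLE_sum (redLE_refl d _) (redLE_of_eq (redEq_symm heq)))
      (redLE_sum' (redLE_refl d _) (redLE_of_eq heq))
  -- a submodule splits along the sequence
  have split : ∀ (F : X.Modules) (ι : F ⟶ S.X₂), Mono ι → Coh.IsCoh F →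
      ∃ (K I : X.Modules) (j : K ⟶ F) (a : K ⟶ S.X₁) (b : I ⟶ S.X₃) (q : F ⟶ I),
        Mono j ∧ Mono a ∧ Mono b ∧ Epi q ∧ Coh.IsCoh K ∧ Coh.IsCoh I ∧
        (IsZero I → IsIso j) ∧ tl k L d ℓ F = tl k L d ℓ K + tl k L d ℓ I := by
    intro F ι _ hF
    let q := Abelian.factorThruImage (ι ≫ S.g)
    let b := Abelian.image.ι (ι ≫ S.g)
    have hI : Coh.IsCoh (Abelian.image (ι ≫ S.g)) := CohDev.isCoh_image _ hF h₃.1.1
    let a : kernel q ⟶ S.X₁ := hS.exact.lift (kernel.ι q ≫ ι) (by
      rw [Category.assoc]; exact (congrArg (kernel.ι q ≫ ·) (Abelian.image.fac (ι ≫ S.g)).symm).trans (by rw [kernel.condition_assoc, zero_comp]))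
    have ha : a ≫ S.f = kernel.ι q ≫ ι := hS.exact.lift_f _ _
    haveI : Mono a := by
      haveI : Mono (a ≫ S.f) := ha ▸ mono_comp _ _
      exact mono_of_mono a S.f
    refine ⟨kernel q, _, kernel.ι q, a, b, q, inferInstance, inferInstance, inferInstance,
      inferInstance, isCoh_of_kernel k q hF hI, hI, fun hz => ?_, tl_epi k hL q hF hI⟩
    rw [show q = 0 from hz.eq_of_tgt _ _]
    infer_instance
  refine ⟨⟨hc, fun hz => h₁.2.1 (IsZero.of_mono S.f hz), fun F ι hι hF hF0 => ?_,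
    fun F ι hι hF pF pE hpF hpE h0 _ => ?_⟩, hsum⟩
  · obtain ⟨K, I, j, a, b, q, _, _, _, _, hK, hI, hiso, -⟩ := split F ι hι hF
    refine le_antisymm (dim_le_of_mono ι hdim) ?_
    by_cases hI0 : IsZero I
    · haveI := hiso hI0
      rw [← h₁.2.2.1 F (inv j ≫ a) (mono_comp _ _) hF hF0]
    · rw [← h₃.2.2.1 I b inferInstance hI hI0]
      exact dim_le_of_epi q le_rfl
  · obtain ⟨K, I, j, a, b, q, _, _, _, _, hK, hI, -, hKI⟩ := split F ι hι hF
    rw [eq_hilb k hL hF hpF] at h0 ⊢
    rw [eq_hilb k hL hc hpE]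
    show RedLE d (tl k L d ℓ F) (tl k L d ℓ S.X₂)
    have hnn : ∀ {M N : X.Modules} (c : M ⟶ N) [Mono c], Coh.IsCoh M →
        ShStab.IsPure X N d → 0 ≤ alpha d (tl k L d ℓ M) := fun {M N} c _ hM hN => by
      rw [alpha_tl]
      by_cases hM0 : IsZero M
      · rw [hilb_eq_zero_of_isZero k hL hM0]; simp [alpha]
      · exact (alpha_pos_of_isPure k hL hM hM0 (isPure_of_mono hN c)).le
    have h' : RedLE d (tl k L d ℓ F) (tl k L d ℓ S.X₁) := by
      rw [hKI]
      exact redLE_sum (redLE_of_mono_isEll k hL h₁ a hK) (redLE_trans (hnn b hI h₃.2.2.1) ha₃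
        ha₁.le (redLE_of_mono_isEll k hL h₃ b hI) (redLE_of_eq (redEq_symm heq)))
    refine redLE_trans ?_ ha₁ ?_ h' (redLE_of_eq (redEq_symm hsum))
    · rw [alpha_tl]; exact h0.le
    · rw [hadd, alpha_add]; linarith

section Quotient

variable (hE : Coh.IsCoh E) (hp : ShStab.IsPure X E d)

include hL hE in
/-- Every coherent quotient of `E` lies above the last slope of an `ℓ`-chain. -/
theorem redLE_quot_of_chain {s : LTSeries (Subobject E)} (hs : IsHNChain k L d ℓ s)
    (hc : ∀ i, IsCohSub (s i)) (h0 : s.head = ⊥) (hl : s.last = ⊤) {P : Polynomial ℚ}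
    (hP : 0 ≤ alpha d P)
    (hmin : ∀ i : Fin s.length, RedLE d P (pl k L d ℓ (s i.castSucc) (s i.succ)))
    {U : Subobject E} (hU : IsCohSub U)
    (hd : topologicalKrullDim ↥(CohB1.support (quo (le_top : U ≤ ⊤))) ≤ (d : WithBot ℕ∞)) :
    RedLE d P (pl k L d ℓ U ⊤) := by
  have htop := isCohSub_top hE
  suffices key : ∀ n : Fin (s.length + 1), RedLE d P (pl k L d ℓ U (s n ⊔ U)) by
    have := key (Fin.last _)
    rwa [show s (Fin.last _) = ⊤ from hl, top_sup_eq] at this
  intro n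
  induction n using Fin.induction with
  | zero =>
    rw [show s 0 = ⊥ from h0, bot_sup_eq, pl, sub_self]
    exact redLE_zero_right d P
  | succ i ih =>
    set V := s i.castSucc ⊔ U
    have hV : IsCohSub V := isCohSub_sup k hE (hc _) hU
    have hVU : V ⊔ s i.succ = s i.succ ⊔ U := by
      show (s i.castSucc ⊔ U) ⊔ s i.succ = _
      rw [sup_comm, ← sup_assoc, sup_eq_left.2 (show s i.castSucc ≤ s i.succ from (s.step i).le)]
    rw [← hVU, pl_add k U V (V ⊔ s i.succ)]
    refine redLE_sum' ih ?_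
    obtain ⟨e⟩ := second_iso V (s i.succ)
    have hle : s i.castSucc ≤ V ⊓ s i.succ := le_inf le_sup_left (s.step i).le
    have hi' := isCohSub_inf k hE hV (hc i.succ)
    let π : quo (s.step i).le ⟶ quo (inf_le_right : V ⊓ s i.succ ≤ s i.succ) :=
      cokernel.map _ _ (Subobject.ofLE _ _ hle) (𝟙 _) (by simp)
    haveI : Epi π := by
      refine epi_of_epi_fac (f := cokernel.π (Subobject.ofLE _ _ (s.step i).le))
        (h := cokernel.π (Subobject.ofLE (V ⊓ s i.succ) (s i.succ) inf_le_right)) ?_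
      rw [cokernel.π_desc, Category.id_comp]
    have hQ := isCoh_quo (inf_le_right : V ⊓ s i.succ ≤ s i.succ) hi' (hc _)
    have hss := hs.1 i (s.step i).le
    have h1 := redLE_of_epi_isEll k hL hss π hQ
    rw [tl_iso k hL e hQ, tl_quo k hL le_sup_left hV (isCohSub_sup k hE hV (hc _)),
      tl_quo k hL (s.step i).le (hc _) (hc _)] at h1
    refine redLE_trans hP ?_ ?_ (hmin i) h1
    · exact alpha_pd_pos k hL (s.step i).le (hc _) (hc _) hss
    · rw [show pl k L d ℓ V (V ⊔ s i.succ) =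
        tl k L d ℓ (quo (le_sup_left : V ≤ V ⊔ s i.succ)) from
          (tl_quo k hL _ hV (isCohSub_sup k hE hV (hc _))).symm, alpha_tl]
      exact alpha_hilb_nonneg k hL (isCoh_quo _ hV (isCohSub_sup k hE hV (hc _)))
        (dim_le_of_mono (quoMap (le_sup_left : V ≤ V ⊔ s i.succ) le_top)
          (dim_le_of_epi (cokernel.map (Subobject.ofLE U ⊤ le_top) (Subobject.ofLE V ⊤ le_top)
            (Subobject.ofLE U V le_sup_right) (𝟙 _) (by simp)) hd))

include hL hE hp in
/-- The last step of an `ℓ`-chain is the only pure quotient of its multiplicity and slope. -/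
theorem eq_of_last_quot {s : LTSeries (Subobject E)} (hs : IsHNChain k L d ℓ s)
    (hc : ∀ i, IsCohSub (s i)) (h0 : s.head = ⊥) (hl : s.last = ⊤)
    (i₀ : Fin s.length) (hi₀ : i₀.val + 1 = s.length) {U : Subobject E} (hU : IsCohSub U)
    (hUp : ShStab.IsPure X (quo (le_top : U ≤ ⊤)) d) (hne : U ≠ ⊤)
    (hα : alpha d (pl k L d ℓ (s i₀.castSucc) ⊤) = alpha d (pl k L d ℓ U ⊤))
    (hred : RedEq d (pl k L d ℓ (s i₀.castSucc) ⊤) (pl k L d ℓ U ⊤)) :
    s i₀.castSucc = U := by
  have htop := isCohSub_top hE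
  have hlast : s i₀.succ = ⊤ := by
    rw [show i₀.succ = Fin.last _ from Fin.ext hi₀]; exact hl
  set P := pl k L d ℓ (s i₀.castSucc) ⊤ with hPdef
  have hP : 0 < alpha d P := by
    rw [hPdef, ← hlast]
    exact alpha_pd_pos k hL (s.step i₀).le (hc _) (hc _) (hs.1 i₀ (s.step i₀).le)
  have hstep : ∀ a : Fin s.length, a ≠ i₀ →
      RedLT d P (pl k L d ℓ (s a.castSucc) (s a.succ)) := fun a ha => by
    rw [hPdef, ← hlast]
    exact slope_mono k hL s hs hc a i₀ (lt_of_le_of_ne (by omega) fun e => ha (Fin.ext e))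
  have hmin : ∀ a : Fin s.length, RedLE d P (pl k L d ℓ (s a.castSucc) (s a.succ)) := fun a => by
    by_cases ha : a = i₀
    · subst ha; rw [hlast]; exact redLE_refl d _
    · exact redLE_of_lt (hstep a ha)
  have hdU : topologicalKrullDim ↥(CohB1.support (quo (le_top : U ≤ ⊤))) ≤ (d : WithBot ℕ∞) :=
    dim_le_of_epi (cokernel.π _) (dim_sub_le hp htop)
  have hbelow : ∀ n : Fin (s.length + 1), n.val ≤ i₀.val → s n ≤ U := by
    intro n
    induction n using Fin.induction with
    | zero => exact fun _ => (show s 0 = ⊥ from h0) ▸ bot_le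
    | succ a ih =>
      intro ha
      have hlt : a.val < i₀.val := by simp only [Fin.val_succ] at ha; omega
      have hA : s a.castSucc ≤ U := ih hlt.le
      by_contra hnot
      set V := U ⊔ s a.succ
      have hV : IsCohSub V := isCohSub_sup k hE hU (hc _)
      have hUV : U < V := lt_of_le_of_ne le_sup_left fun e => hnot (e ▸ le_sup_right)
      have hVq := isCoh_quo hUV.le hU hV
      have haV : 0 < alpha d (pl k L d ℓ U V) := by
        rw [pl, ← tl_quo k hL hUV.le hU hV]
        exact alpha_tl_pos k hL hVq (not_isZero_quo hUV)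
          (isPure_of_mono hUp (quoMap hUV.le (le_top : V ≤ ⊤)))
      -- `V / U` lies below `P`
      have hdV : topologicalKrullDim ↥(CohB1.support (quo (le_top : V ≤ ⊤))) ≤
          (d : WithBot ℕ∞) := dim_le_of_epi (cokernel.π _) (dim_sub_le hp htop)
      have h1 := redLE_quot_of_chain k hL hE hs hc h0 hl hP.le hmin hV hdV
      have hPU : 0 < alpha d (pl k L d ℓ U ⊤) := hα ▸ hP
      have hV0 : 0 ≤ alpha d (pl k L d ℓ V ⊤) := by
        rw [pl, ← tl_quo k hL le_top hV htop, alpha_tl]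
        exact alpha_hilb_nonneg k hL (isCoh_quo le_top hV htop) hdV
      have h2 : RedLE d (pl k L d ℓ U ⊤) (pl k L d ℓ V ⊤) :=
        redLE_trans hPU.le hP hV0 (redLE_of_eq (redEq_symm hred)) h1
      rw [pl_add k U V ⊤] at h2
      have h3 := (redLE_add_left_iff _ _).2 h2
      rw [← pl_add k U V ⊤] at h3
      have h4 : RedLE d (pl k L d ℓ U V) P :=
        redLE_trans haV.le hPU hP.le h3 (redLE_of_eq (redEq_symm hred))
      -- but it is a quotient of a steeper step
      obtain ⟨e⟩ := second_iso U (s a.succ)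
      have hle : s a.castSucc ≤ U ⊓ s a.succ := le_inf hA (s.step a).le
      let π : quo (s.step a).le ⟶ quo (inf_le_right : U ⊓ s a.succ ≤ s a.succ) :=
        cokernel.map _ _ (Subobject.ofLE _ _ hle) (𝟙 _) (by simp)
      haveI : Epi π := by
        refine epi_of_epi_fac (f := cokernel.π (Subobject.ofLE _ _ (s.step a).le))
          (h := cokernel.π (Subobject.ofLE (U ⊓ s a.succ) (s a.succ) inf_le_right)) ?_
        rw [cokernel.π_desc, Category.id_comp]
      have hi' := isCohSub_inf k hE hU (hc a.succ)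
      have hQ := isCoh_quo (inf_le_right : U ⊓ s a.succ ≤ s a.succ) hi' (hc _)
      have hss := hs.1 a (s.step a).le
      have h5 := redLE_of_epi_isEll k hL hss π hQ
      rw [tl_iso k hL e hQ, tl_quo k hL le_sup_left hU hV,
        tl_quo k hL (s.step a).le (hc _) (hc _)] at h5
      have ha_pos : 0 < alpha d (pl k L d ℓ (s a.castSucc) (s a.succ)) :=
        alpha_pd_pos k hL (s.step a).le (hc _) (hc _) hss
      exact not_redLT_of_le (redLE_trans ha_pos.le haV hP.le h5 h4)
        (hstep a fun he => by rw [he] at hlt; omega)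
  have hSU : s i₀.castSucc ≤ U := hbelow i₀.castSucc le_rfl
  by_contra hne'
  have hlt : s i₀.castSucc < U := lt_of_le_of_ne hSU hne'
  have hFp : ShStab.IsPure X (quo (le_top : s i₀.castSucc ≤ ⊤)) d := by
    have := (hs.1 i₀ (s.step i₀).le).2.2.1
    convert this using 2 <;> rw [hlast]
  have hq := isCoh_quo hSU (hc _) hU
  have hz : alpha d (tl k L d ℓ (quo hSU)) = 0 := by
    rw [tl_quo k hL hSU (hc _) hU,
      show ts k L d ℓ U - ts k L d ℓ (s i₀.castSucc) =
        pl k L d ℓ (s i₀.castSucc) ⊤ - pl k L d ℓ U ⊤ by simp only [pl]; ring]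
    rw [hPdef] at hα
    simp only [alpha, Polynomial.coeff_sub, mul_sub] at hα ⊢
    linarith
  exact (alpha_tl_pos k hL hq (not_isZero_quo hlt)
    (isPure_of_mono hFp (quoMap hSU (le_top : U ≤ ⊤)))).ne' hz

end Quotient

end Groth.Agent.ShStabLib.Ell
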