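import Groth.Agent.ShStabLib.Ell.Apps
import Groth.Agent.Ref1.Extend
import Groth.Agent.VarDim.Curve
import Groth.Agent.CycLib.FibreDim

/-!
# Slope-stable reflexive modules

Reflexive modules on an integral scheme are pure; an injection of reflexive modules on a normal variety
whose cokernel has support of codimension at least two is bijective; hence nonzero maps of slope-stable
reflexive modules which do not decrease the slope are isomorphisms.
-/

universe u

open CategoryTheory CategoryTheory.Limits AlgebraicGeometry TopologicalSpace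
open StabCat (alpha RedLE RedLT RedEq topPart hatSlope)
open Groth.Agent.HilbPolyX Groth.Agent.PullStalk.Exact Groth.Agent.Ref1

set_option linter.style.haveILetI false

noncomputable section

namespace Groth.Agent.ShStabLib.Ell

variable {X : Scheme.{u}} [IsIntegral X] {n : ℕ}
variable (k : Type u) [Field k] [X.Over (Spec (CommRingCat.of k))]
  [IsProper (X ↘ Spec (CommRingCat.of k))] {L : X.Modules} (hL : CohB1.IsAmple L)
  (hdim : topologicalKrullDim X = (n : WithBot ℕ∞))

include k hdim in
/-- Reflexive modules are torsion free, hence pure. -/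
theorem isPure_of_isReflexive {F : X.Modules} (hF : Coh.IsCoh F) (hFr : RefHull.IsReflexive F) :
    ShStab.IsPure X F n := by
  haveI := EulerChar.isNoetherian k (X := X)
  intro G ι hι hG hG0
  refine le_antisymm (EulerChar.dim_support_le hdim.le) ?_
  obtain ⟨x, hx⟩ : (CohB1.support G).Nonempty := by
    by_contra h
    exact hG0 (CohDev.isZero_of_support_eq_empty (Set.not_nonempty_iff_eq_empty.1 h))
  obtain ⟨v, hv⟩ : ∃ v : G.presheaf.stalk x, v ≠ 0 := by
    by_contra h
    push Not at h
    exact hx (subsingleton_of_forall_eq 0 h)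
  have hη : genericPoint X ∈ CohB1.support G := fun hs => by
    have h0 : toη G x v = 0 := @Subsingleton.elim _ hs _ _
    have h1 : toη F x (RefHull.stalkMapₗ ι x v) = 0 := by
      rw [toη, sp_stalkMap ι (hsp x) v]
      exact (congrArg _ h0).trans (map_zero _)
    exact hv (CohDev.stalk_injective ι x ((toη_injective_of_isReflexive F hF hFr x
      (h1.trans (map_zero _).symm)).trans (map_zero _).symm))
  have huniv : CohB1.support G = Set.univ :=
    Set.eq_univ_of_forall fun y => (hsp y).mem_closed (CohDev.isClosed_support hG) hη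
  rw [huniv, IsHomeomorph.topologicalKrullDim_eq _ (Homeomorph.Set.univ X).isHomeomorph, hdim]

include k hdim in
/-- Points of codimension at most one have closure of dimension at least `n - 1`. -/
theorem dim_closure_of_codim_one {y : X} (hy : ringKrullDim (X.presheaf.stalk y) ≤ 1) :
    ∃ e : ℕ, n ≤ e + 1 ∧ topologicalKrullDim ↥(closure ({y} : Set X)) = (e : WithBot ℕ∞) := by
  have hd : n = VarDim.dimPt k X (genericPoint X) := by
    have h := (VarDim.topologicalKrullDim_eq_of_irreducible k (X := X)).symm.trans hdim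
    exact_mod_cast h.symm
  refine ⟨VarDim.dimPt k X y, ?_, ?_⟩
  · rw [ringKrullDim_stalk_eq_coheight] at hy
    have h1 := VarDim.le_coheight k (genericPoint_specializes y : y ≤ genericPoint X)
    have h2 : ((VarDim.dimPt k X (genericPoint X) - VarDim.dimPt k X y : ℕ) : ℕ∞) ≤ (1 : ℕ) :=
      h1.trans (by exact_mod_cast hy)
    have h3 : VarDim.dimPt k X (genericPoint X) - VarDim.dimPt k X y ≤ 1 := by exact_mod_cast h2
    omega
  · rw [CycLib.topologicalKrullDim_closure, VarDim.height_eq_dimPt k y]
    rfl

include hL hdim in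
/-- A cokernel with vanishing truncation `topPart 1` is supported in codimension at least two. -/
theorem not_mem_support_of_tl_eq_zero {C : X.Modules} (hC : Coh.IsCoh C)
    (h : tl k L n 1 C = 0) {y : X} (hy : ringKrullDim (X.presheaf.stalk y) ≤ 1) :
    y ∉ CohB1.support C := by
  intro hmem
  obtain ⟨e, he, hcl⟩ := dim_closure_of_codim_one k hdim hy
  have h0 : ¬ IsZero C := fun hz => by
    rw [support_eq_empty_of_isZero hz] at hmem
    exact hmem
  obtain ⟨m, hm⟩ := exists_dim k h0
  have hle : (e : WithBot ℕ∞) ≤ (m : WithBot ℕ∞) := by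
    rw [← hcl, ← hm]
    have hsub : closure ({y} : Set X) ⊆ CohB1.support C :=
      closure_minimal (Set.singleton_subset_iff.2 hmem) (CohDev.isClosed_support hC)
    exact (Topology.IsEmbedding.inclusion hsub).isInducing.topologicalKrullDim_le
  have hmn : (m : WithBot ℕ∞) ≤ (n : WithBot ℕ∞) := hm ▸ EulerChar.dim_support_le hdim.le
  have hle' : e ≤ m := by exact_mod_cast hle
  have hmn' : m ≤ n := by exact_mod_cast hmn
  have hpos := coeff_pos k hL m hC (isHilbPoly_hilb k hL hC) hm
  have := congrArg (Polynomial.coeff · m) h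
  simp only [tl, coeff_topPart, Polynomial.coeff_zero] at this
  rw [if_pos ⟨by omega, hmn'⟩] at this
  exact hpos.ne' this

include hL hdim in
/-- A nonzero map of `μ`-stable reflexive modules not decreasing the slope is an isomorphism. -/
theorem isIso_of_isMuStable (hn : 1 ≤ n) (hX : Pi1.IsNormalScheme X) {F G : X.Modules}
    (hFr : RefHull.IsReflexive F) (hGr : RefHull.IsReflexive G)
    (hF : ShStab.IsMuStable k X L F n) (hG : ShStab.IsMuStable k X L G n)
    (hle : hatSlope n (hilb k L G) ≤ hatSlope n (hilb k L F)) (φ : F ⟶ G) (hφ : φ ≠ 0) :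
    IsIso φ := by
  haveI := EulerChar.isNoetherian k (X := X)
  obtain ⟨hFc, hF0, -, -, hFs⟩ := hF
  obtain ⟨hGc, hG0, -, -, hGs⟩ := hG
  have hFp := isPure_of_isReflexive k hdim hFc hFr
  have hGp := isPure_of_isReflexive k hdim hGc hGr
  have haF := alpha_pos_of_isPure k hL hFc hF0 hFp
  have haG := alpha_pos_of_isPure k hL hGc hG0 hGp
  obtain ⟨I, p, q, _, _, hI, hI0, hpq⟩ := exists_image_of_ne_zero k φ hφ hFc hGc
  have haI := alpha_pos_of_isPure k hL hI hI0 (isPure_of_mono hGp q)
  have hK := isCoh_of_kernel k p hFc hI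
  have hadd := hilb_epi k hL p hFc hI
  have hC := isCoh_of_monoCokernel q hI hGc
  have hadd' := hilb_mono k hL q hI hGc
  have hsplit : alpha n (hilb k L F) = alpha n (hilb k L (kernel p)) + alpha n (hilb k L I) := by
    rw [hadd, alpha_add]
  have hGF : RedLE n (tl k L n 1 G) (tl k L n 1 F) := (redLE_one_iff hn haG haF).2 hle
  have haT : ∀ {M : X.Modules}, 0 < alpha n (hilb k L M) → 0 < alpha n (tl k L n 1 M) :=
    fun h => by rwa [alpha_tl]
  -- the kernel is zero
  have hK0 : IsZero (kernel p) := by
    by_contra hK0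
    have haK := alpha_pos_of_isPure k hL hK hK0 (isPure_of_mono hFp (kernel.ι p))
    have hlt : alpha n (hilb k L (kernel p)) < alpha n (hilb k L F) := by linarith
    have h1 : RedLT n (tl k L n 1 (kernel p)) (tl k L n 1 F) :=
      (redLT_one_iff hn haK haF).2 (hFs _ (kernel.ι p) inferInstance hK _ _
        (isHilbPoly_hilb k hL hK) (isHilbPoly_hilb k hL hFc) haK hlt)
    rw [tl_epi k hL p hFc hI] at h1
    have h2 := (redLT_add_left_iff _ _).1 h1
    rw [← tl_epi k hL p hFc hI] at h2
    have h3 : RedLE n (tl k L n 1 I) (tl k L n 1 G) := by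
      by_cases hlt' : alpha n (hilb k L I) < alpha n (hilb k L G)
      · exact redLE_of_lt ((redLT_one_iff hn haI haG).2 (hGs I q inferInstance hI _ _
          (isHilbPoly_hilb k hL hI) (isHilbPoly_hilb k hL hGc) haI hlt'))
      · rw [← ts_mk k hL q hI, ← ts_top k hL hGc]
        refine redLE_of_ta_eq k hL hGp le_top (isCohSub_mk q hI) (isCohSub_top hGc)
          (le_antisymm (ta_mono k hL hGp le_top (isCohSub_mk q hI) (isCohSub_top hGc)) ?_)
        rw [ts_mk k hL q hI, ts_top k hL hGc, alpha_tl, alpha_tl]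
        exact not_lt.1 hlt'
    exact not_redLT_of_le (redLE_trans (haT haI).le (haT haG) (haT haF).le h3 hGF) h2
  haveI : IsIso p := isIso_of_epi_of_kernel p hK0
  have hTI : tl k L n 1 F = tl k L n 1 I := tl_iso k hL (asIso p) hFc
  -- the multiplicities agree
  have haIG : alpha n (hilb k L I) = alpha n (hilb k L G) := by
    have h := ta_mono k hL hGp (ℓ := 1) le_top (isCohSub_mk q hI) (isCohSub_top hGc)
    rw [ts_mk k hL q hI, ts_top k hL hGc, alpha_tl, alpha_tl] at h
    refine le_antisymm h (not_lt.1 fun hlt => ?_)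
    have h1 := (redLT_one_iff hn haI haG).2 (hGs I q inferInstance hI _ _
      (isHilbPoly_hilb k hL hI) (isHilbPoly_hilb k hL hGc) haI hlt)
    change RedLT n (tl k L n 1 I) (tl k L n 1 G) at h1
    rw [← hTI] at h1
    exact not_redLT_of_le hGF h1
  have hle' : RedLE n (tl k L n 1 I) (tl k L n 1 G) := by
    rw [← ts_mk k hL q hI, ← ts_top k hL hGc]
    refine redLE_of_ta_eq k hL hGp le_top (isCohSub_mk q hI) (isCohSub_top hGc) ?_
    rw [ts_mk k hL q hI, ts_top k hL hGc, alpha_tl, alpha_tl, haIG]
  have heq : RedEq n (tl k L n 1 I) (tl k L n 1 G) := by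
    refine redEq_of_le_of_le hle' ?_
    rw [← hTI]; exact hGF
  have hCz : tl k L n 1 (cokernel q) = 0 := by
    have h : tl k L n 1 I = tl k L n 1 G := by
      refine smul_cancel (haT haG).ne' ?_
      rw [show alpha n (tl k L n 1 G) • tl k L n 1 I = alpha n (tl k L n 1 I) • tl k L n 1 G from heq,
        alpha_tl, alpha_tl, haIG]
    have h' := tl_mono k hL q hI hGc (d := n) (ℓ := 1)
    rw [← h] at h'
    exact left_eq_add.1 h'
  haveI : Mono φ := hpq ▸ mono_comp _ _
  -- bijective in codimension one
  have hbij : ∀ y : X, ringKrullDim (X.presheaf.stalk y) ≤ 1 →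
      Function.Bijective (stalkLin φ y) := fun y hy => by
    refine ⟨CohDev.stalk_injective φ y, fun t => ?_⟩
    have hns := not_mem_support_of_tl_eq_zero k hL hdim hC hCz hy
    have hs : Subsingleton ((cokernel q).presheaf.stalk y) := not_not.1 hns
    obtain ⟨b, hb⟩ := ((stalk_exact (shortExact_of_mono q) y).2.1 t).1 (Subsingleton.elim _ _)
    obtain ⟨a, ha⟩ := stalk_surjective p y b
    refine ⟨a, ?_⟩
    rw [← hpq, CohDev.stalkLin_comp_apply, ha]
    exact hb
  have hη : Function.Bijective (RefHull.stalkMapₗ φ (genericPoint X)) :=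
    hbij _ (le_of_eq_of_le (by
      rw [ringKrullDim_stalk_eq_coheight, Order.coheight_eq_zero.2
        (fun z _ => genericPoint_specializes z)]
      rfl : ringKrullDim (X.presheaf.stalk (genericPoint X)) = 0) zero_le_one)
  let T := LinearEquiv.ofBijective (RefHull.stalkMapₗ φ (genericPoint X)) hη
  obtain ⟨ψ, hψ⟩ := exists_hom_of_codim_one hX G F hFc hFr T.symm.toLinearMap fun y hy v => by
    obtain ⟨w, rfl⟩ := (hbij y hy.le).2 v
    refine ⟨w, (T.symm_apply_eq.2 ?_).symm⟩
    exact sp_stalkMap φ (hsp y) w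
  refine ⟨ψ, ?_, ?_⟩
  · refine hom_ext_η (toη_injective_of_isReflexive F hFc hFr) ?_
    rw [RefFun.stalkMapₗ_comp, hψ, RefFun.stalkMapₗ_id]
    exact LinearMap.ext T.symm_apply_apply
  · refine hom_ext_η (toη_injective_of_isReflexive G hGc hGr) ?_
    rw [RefFun.stalkMapₗ_comp, hψ, RefFun.stalkMapₗ_id]
    exact LinearMap.ext T.apply_symm_apply

end Groth.Agent.ShStabLib.Ell
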