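import Groth.Agent.ShStabLib.Quot

/-!
# Truncated Hilbert polynomials of coherent modules and subobjects

`tl k L d ℓ F` is the part of the Hilbert polynomial of `F` in degrees `d - ℓ, …, d`.  It is additive,
has the multiplicity of `F`, and is eventually nonnegative when the support has dimension at most `d`.
For `ℓ = 1` comparing reduced truncations is comparing slopes.
-/

universe u

open CategoryTheory CategoryTheory.Limits AlgebraicGeometry TopologicalSpace
open StabCat (alpha RedLE RedLT RedEq topPart hatSlope)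
open Groth.Agent.HilbPolyX

set_option linter.style.haveILetI false

noncomputable section

namespace Groth.Agent.ShStabLib.Ell

theorem topPart_add (ℓ d : ℕ) (P Q : Polynomial ℚ) :
    topPart ℓ d (P + Q) = topPart ℓ d P + topPart ℓ d Q := by
  ext i
  rw [Polynomial.coeff_add, coeff_topPart, coeff_topPart, coeff_topPart, Polynomial.coeff_add]
  split_ifs <;> simp

theorem topPart_zero (ℓ d : ℕ) : topPart ℓ d (0 : Polynomial ℚ) = 0 := by
  simp [topPart]

/-- The cross difference of `1`-truncations. -/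
theorem cross_topPart_one (e : ℕ) (P Q : Polynomial ℚ) :
    alpha (e + 1) P • topPart 1 (e + 1) Q - alpha (e + 1) Q • topPart 1 (e + 1) P =
      Polynomial.monomial e (alpha (e + 1) P * Q.coeff e - alpha (e + 1) Q * P.coeff e) := by
  ext i
  simp only [Polynomial.coeff_sub, Polynomial.coeff_smul, coeff_topPart, Polynomial.coeff_monomial,
    smul_eq_mul, Nat.add_sub_cancel]
  by_cases h1 : e = i
  · subst h1; simp
  by_cases h2 : i = e + 1
  · subst h2; simp [alpha]; ring
  have h3 : ¬ (e ≤ i ∧ i ≤ e + 1) := by omega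
  simp [h1, h3]

theorem leadingCoeff_cross (e : ℕ) (P Q : Polynomial ℚ) :
    (alpha (e + 1) (topPart 1 (e + 1) P) • topPart 1 (e + 1) Q -
      alpha (e + 1) (topPart 1 (e + 1) Q) • topPart 1 (e + 1) P).leadingCoeff =
      alpha (e + 1) P * Q.coeff e - alpha (e + 1) Q * P.coeff e := by
  rw [alpha_topPart, alpha_topPart, cross_topPart_one, Polynomial.leadingCoeff_monomial]

/-- For `ℓ = 1` reduced truncations compare as slopes. -/
theorem redLE_one_iff {d : ℕ} (hd : 1 ≤ d) {P Q : Polynomial ℚ} (hP : 0 < alpha d P)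
    (hQ : 0 < alpha d Q) :
    RedLE d (topPart 1 d P) (topPart 1 d Q) ↔ hatSlope d P ≤ hatSlope d Q := by
  obtain ⟨e, rfl⟩ : ∃ e, d = e + 1 := ⟨d - 1, by omega⟩
  have hf : (0 : ℚ) < e.factorial := by exact_mod_cast e.factorial_pos
  unfold RedLE hatSlope
  rw [polyLE_iff, leadingCoeff_cross, Nat.add_sub_cancel, div_le_div_iff₀ hP hQ,
    show alpha e P = (e.factorial : ℚ) * P.coeff e from rfl,
    show alpha e Q = (e.factorial : ℚ) * Q.coeff e from rfl]
  constructor <;> intro h <;> nlinarith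

theorem redLT_one_iff {d : ℕ} (hd : 1 ≤ d) {P Q : Polynomial ℚ} (hP : 0 < alpha d P)
    (hQ : 0 < alpha d Q) :
    RedLT d (topPart 1 d P) (topPart 1 d Q) ↔ hatSlope d P < hatSlope d Q := by
  obtain ⟨e, rfl⟩ : ∃ e, d = e + 1 := ⟨d - 1, by omega⟩
  have hf : (0 : ℚ) < e.factorial := by exact_mod_cast e.factorial_pos
  unfold RedLT hatSlope
  rw [polyLT_iff, leadingCoeff_cross, Nat.add_sub_cancel, div_lt_div_iff₀ hP hQ,
    show alpha e P = (e.factorial : ℚ) * P.coeff e from rfl,
    show alpha e Q = (e.factorial : ℚ) * Q.coeff e from rfl]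
  constructor <;> intro h <;> nlinarith

variable {X : Scheme.{u}} {E : X.Modules} {d ℓ : ℕ}
variable (k : Type u) [Field k] [X.Over (Spec (CommRingCat.of k))]
  [IsProper (X ↘ Spec (CommRingCat.of k))]

/-- The truncated Hilbert polynomial. -/
def tl (L : X.Modules) (d ℓ : ℕ) (F : X.Modules) : Polynomial ℚ := topPart ℓ d (hilb k L F)

/-- The truncated Hilbert polynomial of a subobject. -/
abbrev ts (L : X.Modules) (d ℓ : ℕ) (S : Subobject E) : Polynomial ℚ := tl k L d ℓ (S : X.Modules)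

/-- The truncated Hilbert polynomial of `T/S`, as a difference. -/
abbrev pl (L : X.Modules) (d ℓ : ℕ) (S T : Subobject E) : Polynomial ℚ := ts k L d ℓ T - ts k L d ℓ S

variable {L : X.Modules} (hL : CohB1.IsAmple L)

omit [IsProper (X ↘ Spec (CommRingCat.of k))] in
theorem pl_add (S U T : Subobject E) : pl k L d ℓ S T = pl k L d ℓ S U + pl k L d ℓ U T := by
  simp only [pl]; ring

omit [IsProper (X ↘ Spec (CommRingCat.of k))] in
theorem alpha_tl (F : X.Modules) : alpha d (tl k L d ℓ F) = alpha d (hilb k L F) :=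
  alpha_topPart ℓ d _

include hL in
theorem tl_iso {F G : X.Modules} (e : F ≅ G) (hF : Coh.IsCoh F) : tl k L d ℓ F = tl k L d ℓ G :=
  congrArg (topPart ℓ d) (hilb_iso k hL e hF)

include hL in
theorem tl_of_isZero {F : X.Modules} (h : IsZero F) : tl k L d ℓ F = 0 := by
  rw [tl, hilb_eq_zero_of_isZero k hL h, topPart_zero]

include hL in
theorem tl_mono {F G : X.Modules} (ι : F ⟶ G) [Mono ι] (hF : Coh.IsCoh F) (hG : Coh.IsCoh G) :
    tl k L d ℓ G = tl k L d ℓ F + tl k L d ℓ (cokernel ι) :=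
  (congrArg (topPart ℓ d) (hilb_mono k hL ι hF hG)).trans (topPart_add ..)

include hL in
theorem tl_epi {G Q : X.Modules} (π : G ⟶ Q) [Epi π] (hG : Coh.IsCoh G) (hQ : Coh.IsCoh Q) :
    tl k L d ℓ G = tl k L d ℓ (kernel π) + tl k L d ℓ Q :=
  (congrArg (topPart ℓ d) (hilb_epi k hL π hG hQ)).trans (topPart_add ..)

include hL in
theorem tl_nonneg {F : X.Modules} (hF : Coh.IsCoh F)
    (hd : topologicalKrullDim ↥(CohB1.support F) ≤ (d : WithBot ℕ∞)) :
    StabCat.PolyLE 0 (tl k L d ℓ F) := by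
  have := polyLE_topPart (d := d) ℓ (P := 0) (by simp) (natDegree_hilb_le k hL hF hd)
    (hilb_nonneg k hL hF)
  rwa [topPart_zero] at this

include hL in
theorem ts_bot : ts k L d ℓ (⊥ : Subobject E) = 0 := tl_of_isZero k hL isZero_bot

include hL in
theorem ts_top (hE : Coh.IsCoh E) : ts k L d ℓ (⊤ : Subobject E) = tl k L d ℓ E :=
  tl_iso k hL (asIso (⊤ : Subobject E).arrow) (isCohSub_top hE)

include hL in
theorem ts_mk {F : X.Modules} (ι : F ⟶ E) [Mono ι] (hF : Coh.IsCoh F) :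
    ts k L d ℓ (Subobject.mk ι) = tl k L d ℓ F :=
  tl_iso k hL (Subobject.underlyingIso ι) (isCohSub_mk ι hF)

include hL in
theorem tl_quo {S T : Subobject E} (h : S ≤ T) (hS : IsCohSub S) (hT : IsCohSub T) :
    tl k L d ℓ (quo h) = ts k L d ℓ T - ts k L d ℓ S :=
  eq_sub_of_add_eq' (tl_mono k hL (Subobject.ofLE S T h) hS hT).symm

include hL in
theorem ts_inf_add_sup (hE : Coh.IsCoh E) {S T : Subobject E} (hS : IsCohSub S) (hT : IsCohSub T) :
    ts k L d ℓ (S ⊓ T) + ts k L d ℓ (S ⊔ T) = ts k L d ℓ S + ts k L d ℓ T := by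
  simp only [ts, tl, ← topPart_add]
  exact congrArg _ (hs_inf_add_sup k hL hE hS hT)

include hL in
theorem pl_lift {S T : Subobject E} (h : S ≤ T) (hS : IsCohSub S) (hT : IsCohSub T)
    {G : X.Modules} (ι : G ⟶ quo h) [Mono ι] (hG : Coh.IsCoh G) :
    pl k L d ℓ S (lift h ι) = tl k L d ℓ G := by
  simp only [pl, ts, tl]
  rw [show hilb k L (lift h ι : X.Modules) = hilb k L (S : X.Modules) + hilb k L G from
    hs_lift k hL h hS hT ι hG, topPart_add, add_sub_cancel_left]

variable (hp : ShStab.IsPure X E d)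

include hL hp in
theorem ta_pos {S : Subobject E} (hS : IsCohSub S) (h : S ≠ ⊥) : 0 < alpha d (ts k L d ℓ S) := by
  rw [ts, alpha_tl]; exact a_pos k hL hp hS h

include hL hp in
theorem ta_nonneg {S : Subobject E} (hS : IsCohSub S) : 0 ≤ alpha d (ts k L d ℓ S) := by
  rw [ts, alpha_tl]; exact a_nonneg k hL hp hS

include hL hp in
theorem ta_mono {S T : Subobject E} (h : S ≤ T) (hS : IsCohSub S) (hT : IsCohSub T) :
    alpha d (ts k L d ℓ S) ≤ alpha d (ts k L d ℓ T) := by
  rw [ts, ts, alpha_tl, alpha_tl]; exact a_mono k hL hp h hS hT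

include hL hp in
theorem exists_nat_ta {S : Subobject E} (hS : IsCohSub S) :
    ∃ n : ℕ, alpha d (ts k L d ℓ S) = n := by
  rw [ts, alpha_tl]; exact exists_nat_alpha k hL hS (dim_sub_le hp hS)

include hL hp in
theorem redLE_of_ta_eq {S T : Subobject E} (h : S ≤ T) (hS : IsCohSub S) (hT : IsCohSub T)
    (he : alpha d (ts k L d ℓ S) = alpha d (ts k L d ℓ T)) :
    RedLE d (ts k L d ℓ S) (ts k L d ℓ T) := by
  show StabCat.PolyLE _ _
  rw [← he]
  refine polyLE_smul (ta_nonneg k hL hp hS) ?_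
  have := tl_nonneg k hL (isCoh_quo h hS hT) (d := d) (ℓ := ℓ)
    (dim_le_of_epi (cokernel.π _) (dim_sub_le hp hT))
  rw [tl_quo k hL h hS hT, polyLE_iff, sub_zero] at this
  exact polyLE_iff.2 this

omit hp in
include hL in
theorem exists_nat_tl {F : X.Modules} (hF : Coh.IsCoh F)
    (hd : topologicalKrullDim ↥(CohB1.support F) ≤ (d : WithBot ℕ∞)) :
    ∃ n : ℕ, alpha d (tl k L d ℓ F) = n := by
  rw [alpha_tl]; exact exists_nat_alpha k hL hF hd

omit hp in
include hL in
theorem alpha_tl_pos {F : X.Modules} (hF : Coh.IsCoh F) (h0 : ¬ IsZero F)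
    (hFp : ShStab.IsPure X F d) : 0 < alpha d (tl k L d ℓ F) := by
  rw [alpha_tl]; exact alpha_pos_of_isPure k hL hF h0 hFp

omit hp in
include hL in
/-- Every submodule of an `ℓ`-semistable module has at most its reduced truncation. -/
theorem redLE_of_mono_isEll {I G : X.Modules} (hG : ShStab.IsEllSemistable k X L G d ℓ)
    (ι : I ⟶ G) [Mono ι] (hI : Coh.IsCoh I) :
    RedLE d (tl k L d ℓ I) (tl k L d ℓ G) := by
  obtain ⟨hc, h0, hGp, hss⟩ := hG
  by_cases hI0 : IsZero I
  · refine redLE_of_eq ?_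
    rw [tl_of_isZero k hL hI0]
    simp [RedEq, alpha]
  have ha := alpha_tl_pos k hL (ℓ := ℓ) hI hI0 (isPure_of_mono hGp ι)
  rw [← ts_mk k hL ι hI, ← ts_top k hL hc] at *
  have hle := ta_mono k hL hGp (ℓ := ℓ) le_top (isCohSub_mk ι hI) (isCohSub_top hc)
  rcases hle.eq_or_lt with he | hlt
  · exact redLE_of_ta_eq k hL hGp le_top (isCohSub_mk ι hI) (isCohSub_top hc) he
  rw [ts_mk k hL ι hI, ts_top k hL hc] at *
  rw [alpha_tl] at ha
  rw [alpha_tl, alpha_tl] at hlt
  exact hss I ι inferInstance hI _ _ (isHilbPoly_hilb k hL hI) (isHilbPoly_hilb k hL hc) ha hlt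

omit hp in
include hL in
/-- Every nonzero quotient of positive multiplicity of an `ℓ`-semistable module. -/
theorem redLE_of_epi_isEll {F Q : X.Modules} (hF : ShStab.IsEllSemistable k X L F d ℓ)
    (π : F ⟶ Q) [Epi π] (hQ : Coh.IsCoh Q) : RedLE d (tl k L d ℓ F) (tl k L d ℓ Q) := by
  have h := redLE_of_mono_isEll k hL hF (kernel.ι π) (isCoh_of_kernel k π hF.1 hQ)
  rw [tl_epi k hL π hF.1 hQ] at h ⊢
  exact (redLE_add_left_iff _ _).1 h

omit hp [IsProper (X ↘ Spec (CommRingCat.of k))] in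
theorem isMuSemistable_iff_isEll (hd : 1 ≤ d) {G : X.Modules} (hGp : ShStab.IsPure X G d) :
    ShStab.IsMuSemistable k X L G d ↔ ShStab.IsEllSemistable k X L G d 1 := by
  constructor
  · rintro ⟨hc, h0, -, -, h⟩
    refine ⟨hc, h0, hGp, fun F ι hι hF pF pE hpF hpE h1 h2 => ?_⟩
    exact (redLE_one_iff hd h1 (h1.trans h2)).2 (h F ι hι hF pF pE hpF hpE h1 h2)
  · rintro ⟨hc, h0, hp', h⟩
    refine ⟨hc, h0, dim_of_isPure hc h0 hp', fun F ι hι hF he => ?_,
      fun F ι hι hF pF pE hpF hpE h1 h2 => ?_⟩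
    · by_cases hF0 : IsZero F
      · rw [dim_support_of_isZero hF0] at he
        simp at he
      · rw [hp' F ι hι hF hF0] at he
        have : ((d + 1 : ℕ) : WithBot ℕ∞) = ((d : ℕ) : WithBot ℕ∞) := by exact_mod_cast he
        have := Nat.cast_injective (R := WithBot ℕ∞) this
        omega
    · exact (redLE_one_iff hd h1 (h1.trans h2)).1 (h F ι hι hF pF pE hpF hpE h1 h2)

end Groth.Agent.ShStabLib.Ell
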