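import Groth.Agent.ShStabLib.Ell.MaxDestab

/-!
# The `ℓ`-Harder-Narasimhan filtration of a pure coherent module
-/

universe u

open CategoryTheory CategoryTheory.Limits AlgebraicGeometry TopologicalSpace
open StabCat (alpha RedLE RedLT RedEq topPart hatSlope)
open Groth.Agent.HilbPolyX
open Groth.Agent.CohDerLib.SubobjJH (second_iso)

set_option linter.style.haveILetI false

noncomputable section

namespace Groth.Agent.ShStabLib.Ell

variable {X : Scheme.{u}} {E : X.Modules} {d ℓ : ℕ}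
variable (k : Type u) [Field k] [X.Over (Spec (CommRingCat.of k))]
  [IsProper (X ↘ Spec (CommRingCat.of k))] {L : X.Modules} (hL : CohB1.IsAmple L)
variable (hE : Coh.IsCoh E) (hp : ShStab.IsPure X E d)

/-- `T` is the maximal destabilising step above `S`. -/
def MaxAt (L : X.Modules) (d ℓ : ℕ) (S T : Subobject E) : Prop :=
  S < T ∧ IsCohSub T ∧ ∀ U : Subobject E, IsCohSub U → S < U →
    RedLE d (pl k L d ℓ S U) (pl k L d ℓ S T) ∧ (RedEq d (pl k L d ℓ S U) (pl k L d ℓ S T) → U ≤ T)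

theorem MaxAt.unique {S T T' : Subobject E} (h : MaxAt k L d ℓ S T) (h' : MaxAt k L d ℓ S T') :
    T = T' :=
  le_antisymm
    ((h'.2.2 T h.2.1 h.1).2 (redEq_of_le_of_le (h'.2.2 T h.2.1 h.1).1 (h.2.2 T' h'.2.1 h'.1).1))
    ((h.2.2 T' h'.2.1 h'.1).2 (redEq_of_le_of_le (h.2.2 T' h'.2.1 h'.1).1 (h'.2.2 T h.2.1 h.1).1))


include hL hE in
theorem exists_maxAt {S : Subobject E} (hS : IsCohSub S) (hne : S ≠ ⊤)
    (hp : ShStab.IsPure X (quo (le_top : S ≤ ⊤)) d) :
    ∃ T, MaxAt k L d ℓ S T := by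
  have htop := isCohSub_top hE
  have hlt : S < ⊤ := hne.lt_top
  have hQ := isCoh_quo (le_top : S ≤ ⊤) hS htop
  obtain ⟨F, hFc, hF0, hmax⟩ := exists_maxDestab k hL hQ hp (not_isZero_quo hlt)
  have hF0' : ¬ IsZero (F : X.Modules) := fun hz => hF0 (eq_bot_of_isZero hz)
  refine ⟨lift le_top F.arrow, lt_lift le_top F.arrow hF0',
    isCohSub_lift k le_top hS htop F.arrow hFc, fun U hU hSU => ?_⟩
  let κ : quo hSU.le ⟶ quo (le_top : S ≤ ⊤) := quoMap hSU.le (le_top : U ≤ ⊤)
  haveI : Mono κ := mono_quoMap _ _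
  have hUc := isCoh_quo hSU.le hS hU
  have hne' : Subobject.mk κ ≠ ⊥ := fun e => not_isZero_quo hSU
    ((isZero_bot (E := quo (le_top : S ≤ ⊤))).of_iso
      ((Subobject.underlyingIso κ).symm ≪≫ Subobject.isoOfEq _ _ e))
  obtain ⟨h1, h2⟩ := hmax _ (isCohSub_mk κ hUc) hne'
  rw [ts_mk k hL κ hUc, tl_quo k hL hSU.le hS hU,
    show ts k L d ℓ F = pl k L d ℓ S (lift le_top F.arrow) from
      (pl_lift k hL le_top hS htop F.arrow hFc).symm] at h1 h2
  refine ⟨h1, fun he => ?_⟩
  have hle := h2 he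
  refine Subobject.le_mk_of_comm (kernel.lift _ (Subobject.ofLE U ⊤ le_top) ?_) ?_
  · have hfac : cokernel.π (Subobject.ofLE S U hSU.le) ≫ κ =
        Subobject.ofLE U ⊤ le_top ≫ cokernel.π (Subobject.ofLE S ⊤ le_top) :=
      cokernel.π_desc _ _ _
    rw [← Category.assoc, ← hfac, ← Subobject.ofMkLE_arrow hle, Category.assoc, Category.assoc,
      cokernel.condition, comp_zero, comp_zero]
  · rw [kernel.lift_ι_assoc, Subobject.ofLE_arrow]

include hL in
/-- The step of a maximal destabilising element is semistable. -/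
theorem MaxAt.isSemistable {S T : Subobject E} (h : MaxAt k L d ℓ S T) (hS : IsCohSub S)
    (hp : ShStab.IsPure X (quo (le_top : S ≤ ⊤)) d) :
    ShStab.IsEllSemistable k X L (quo h.1.le) d ℓ := by
  obtain ⟨hST, hT, hmax⟩ := h
  have hQ := isCoh_quo hST.le hS hT
  refine ⟨hQ, not_isZero_quo hST, fun G ι hι hG hG0 =>
    hp G (ι ≫ quoMap hST.le (le_top : T ≤ ⊤)) (mono_comp _ _) hG hG0, fun G ι hι hG pG pQ hpG hpQ h0 _ => ?_⟩
  rw [eq_hilb k hL hG hpG] at h0 ⊢
  have hG0 : ¬ IsZero G := fun hz => by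
    rw [HilbPolyX.hilb_eq_zero_of_isZero k hL hz] at h0
    simp [alpha] at h0
  have h1 := (hmax (lift hST.le ι) (isCohSub_lift k hST.le hS hT ι hG) (lt_lift hST.le ι hG0)).1
  rw [pl_lift k hL hST.le hS hT ι hG] at h1
  rw [eq_hilb k hL hQ hpQ]
  show RedLE d (tl k L d ℓ G) (tl k L d ℓ (quo hST.le))
  rwa [tl_quo k hL hST.le hS hT]

include hL hE in
/-- What remains above a maximal destabilising step is pure. -/
theorem MaxAt.isPure {S T : Subobject E} (h : MaxAt k L d ℓ S T) (hS : IsCohSub S)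
    (hp : ShStab.IsPure X (quo (le_top : S ≤ ⊤)) d) :
    ShStab.IsPure X (quo (le_top : T ≤ ⊤)) d := by
  obtain ⟨hST, hT, hmax⟩ := h
  intro G ι hι hG hG0
  have htop := isCohSub_top hE
  have hQ := isCoh_quo (le_top : S ≤ ⊤) hS htop
  have hd : topologicalKrullDim ↥(CohB1.support (quo (le_top : S ≤ ⊤))) = (d : WithBot ℕ∞) :=
    dim_of_isPure hQ (not_isZero_quo (hST.trans_le le_top)) hp
  have hπ : Epi (cokernel.map (Subobject.ofLE S ⊤ le_top) (Subobject.ofLE T ⊤ le_top)
      (Subobject.ofLE S T hST.le) (𝟙 _) (by simp)) := by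
    refine epi_of_epi_fac (f := cokernel.π (Subobject.ofLE S ⊤ le_top))
      (h := cokernel.π (Subobject.ofLE T ⊤ le_top)) ?_
    rw [cokernel.π_desc, Category.id_comp]
  have hdG : topologicalKrullDim ↥(CohB1.support G) ≤ (d : WithBot ℕ∞) :=
    dim_le_of_mono ι (dim_le_of_epi (cokernel.map (Subobject.ofLE S ⊤ le_top)
      (Subobject.ofLE T ⊤ le_top) (Subobject.ofLE S T hST.le) (𝟙 _) _) hd.le)
  refine hdG.eq_or_lt.resolve_right fun hlt => ?_
  let U := lift (le_top : T ≤ ⊤) ι
  have hTU : T < U := lt_lift le_top ι hG0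
  have hU : IsCohSub U := isCohSub_lift k le_top hT htop ι hG
  obtain ⟨h1, h2⟩ := hmax U hU (hST.trans hTU)
  have hsplit : pl k L d ℓ S U = pl k L d ℓ S T + tl k L d ℓ G := by
    rw [← pl_lift k hL (le_top : T ≤ ⊤) hT htop ι hG, ← pl_add]
  have hle : RedLE d (pl k L d ℓ S T) (pl k L d ℓ S U) := by
    show StabCat.PolyLE _ _
    rw [hsplit, alpha_add, alpha_tl k (d := d) (ℓ := ℓ) G, alpha_hilb_eq_zero k hL hG hlt, add_zero]
    refine polyLE_smul ?_ (polyLE_iff.2 ?_)
    · rw [show pl k L d ℓ S T = tl k L d ℓ (quo hST.le) from (tl_quo k hL hST.le hS hT).symm]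
      rw [alpha_tl]
      exact alpha_hilb_nonneg k hL (isCoh_quo hST.le hS hT)
        (dim_le_of_mono (quoMap hST.le (le_top : T ≤ ⊤)) hd.le)
    · rw [add_sub_cancel_left]
      have := tl_nonneg k hL hG hdG (ℓ := ℓ)
      rwa [polyLE_iff, sub_zero] at this
  exact hTU.not_ge (h2 (redEq_of_le_of_le h1 hle))

omit [IsProper (X ↘ Spec (CommRingCat.of k))] in
/-- Slopes drop after a maximal destabilising step. -/
theorem MaxAt.redLT {S T U : Subobject E} (h : MaxAt k L d ℓ S T) (hU : IsCohSub U) (hTU : T < U) :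
    RedLT d (pl k L d ℓ T U) (pl k L d ℓ S T) := by
  obtain ⟨hST, hT, hmax⟩ := h
  obtain ⟨h1, h2⟩ := hmax U hU (hST.trans hTU)
  have hlt : RedLT d (pl k L d ℓ S U) (pl k L d ℓ S T) :=
    (redLE_or_lt d _ _).resolve_left fun hle =>
      hTU.not_ge (h2 (redEq_of_le_of_le h1 hle))
  rw [pl_add k S T U] at hlt
  exact (redLT_sum_iff _ _).1 hlt

/-- A chain with semistable steps of strictly decreasing slope. -/
def IsHNChain (L : X.Modules) (d ℓ : ℕ) (s : LTSeries (Subobject E)) : Prop :=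
  (∀ i : Fin s.length, ∀ h : s i.castSucc ≤ s i.succ, ShStab.IsEllSemistable k X L (quo h) d ℓ) ∧
    ∀ i j : Fin s.length, i.val + 1 = j.val →
      RedLT d (pl k L d ℓ (s j.castSucc) (s j.succ)) (pl k L d ℓ (s i.castSucc) (s i.succ))

include hL hE in
theorem exists_hnChain (S : Subobject E) (hS : IsCohSub S)
    (hp : ShStab.IsPure X (quo (le_top : S ≤ ⊤)) d) :
    ∃ s : LTSeries (Subobject E), s.head = S ∧ s.last = ⊤ ∧ IsHNChain k L d ℓ s ∧
      (∀ i, IsCohSub (s i)) ∧ ∀ i : Fin s.length, i.val = 0 → MaxAt k L d ℓ (s i.castSucc) (s i.succ) := by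
  haveI := EulerChar.isNoetherian k (X := X)
  haveI := wellFoundedGT_cohSub hE
  suffices key : ∀ S : {S : Subobject E // IsCohSub S},
      ShStab.IsPure X (quo (le_top : S.1 ≤ ⊤)) d →
      ∃ s : LTSeries (Subobject E), s.head = S.1 ∧ s.last = ⊤ ∧ IsHNChain k L d ℓ s ∧
        (∀ i, IsCohSub (s i)) ∧
        ∀ i : Fin s.length, i.val = 0 → MaxAt k L d ℓ (s i.castSucc) (s i.succ) from key ⟨S, hS⟩ hp
  intro S
  induction S using WellFoundedGT.induction with
  | ind S ih =>
    intro hp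
    obtain ⟨S, hS⟩ := S
    by_cases hne : S = ⊤
    · exact ⟨RelSeries.singleton _ S, rfl, hne, ⟨fun i => i.elim0, fun i => i.elim0⟩,
        fun _ => hS, fun i => i.elim0⟩
    obtain ⟨T, hT⟩ := exists_maxAt k hL (ℓ := ℓ) hE hS hne hp
    obtain ⟨s, hs0, hsl, ⟨hss, hdec⟩, hsc, hfirst⟩ :=
      ih ⟨T, hT.2.1⟩ hT.1 (hT.isPure k hL hE hS hp)
    have h0 : s.toFun 0 = T := hs0
    refine ⟨consSeries S s (hT.1.trans_eq hs0.symm), rfl, hsl, ⟨fun i => ?_, fun i j hij => ?_⟩,
      fun i => ?_, fun i hi => ?_⟩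
    · induction i using Fin.cases with
      | zero =>
        show ∀ h : S ≤ s.toFun 0, ShStab.IsEllSemistable k X L (quo h) d ℓ
        rw [h0]
        exact fun _ => hT.isSemistable k hL hS hp
      | succ i => exact hss i
    · induction j using Fin.cases with
      | zero => simp at hij
      | succ j =>
        induction i using Fin.cases with
        | zero =>
          show RedLT d (pl k L d ℓ (s j.castSucc) (s j.succ)) (pl k L d ℓ S (s.toFun 0))
          rw [h0]
          have hj : j.val = 0 := by simpa using hij.symm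
          have hj0 : s j.castSucc = T := by
            rw [← h0]
            exact congrArg s.toFun (Fin.ext hj)
          rw [hj0]
          exact hT.redLT k (hsc j.succ) (hj0 ▸ s.step j)
        | succ i => exact hdec i j (by simpa using hij)
    · induction i using Fin.cases with
      | zero => exact hS
      | succ i => exact hsc i
    · obtain rfl : i = ⟨0, Nat.succ_pos _⟩ := Fin.ext hi
      show MaxAt k L d ℓ S (s.toFun 0)
      rw [h0]
      exact hT

include hL in
/-- The multiplicity of a semistable step is positive. -/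
theorem alpha_pd_pos {A B : Subobject E} (h : A ≤ B) (hA : IsCohSub A) (hB : IsCohSub B)
    (hss : ShStab.IsEllSemistable k X L (quo h) d ℓ) : 0 < alpha d (pl k L d ℓ A B) := by
  rw [show pl k L d ℓ A B = tl k L d ℓ (quo h) from (tl_quo k hL h hA hB).symm]
  rw [alpha_tl]
  exact alpha_hilb_pos k hL hss.1 (dim_of_isPure hss.1 hss.2.1 hss.2.2.1)

include hL in
theorem slope_mono (s : LTSeries (Subobject E)) (hs : IsHNChain k L d ℓ s)
    (hc : ∀ i, IsCohSub (s i)) (i j : Fin s.length) (h : i.val < j.val) :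
    RedLT d (pl k L d ℓ (s j.castSucc) (s j.succ)) (pl k L d ℓ (s i.castSucc) (s i.succ)) := by
  obtain ⟨j, hj⟩ := j
  have hpos : ∀ i : Fin s.length, 0 < alpha d (pl k L d ℓ (s i.castSucc) (s i.succ)) := fun i =>
    alpha_pd_pos k hL (s.step i).le (hc _) (hc _) (hs.1 i (s.step i).le)
  induction j with
  | zero => exact absurd h (by simp)
  | succ j ih =>
    have hj' : j < s.length := by omega
    rcases Nat.lt_succ_iff_lt_or_eq.1 h with h' | h'
    · exact redLT_of_lt_of_le (hpos _).le (hpos ⟨j, hj'⟩) (hpos i)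
        (hs.2 ⟨j, hj'⟩ ⟨j + 1, hj⟩ rfl) (redLE_of_lt (ih hj' h'))
    · exact hs.2 i ⟨j + 1, hj⟩ (by simp [h'])

include hL hE in
/-- Every step of a chain of semistables with decreasing slopes is maximal destabilising. -/
theorem maxAt_step (s : LTSeries (Subobject E)) (hs : IsHNChain k L d ℓ s)
    (hc : ∀ i, IsCohSub (s i)) (hlast : s.last = ⊤) (i : Fin s.length) :
    MaxAt k L d ℓ (s i.castSucc) (s i.succ) := by
  set S := s i.castSucc with hSdef
  set T := s i.succ with hTdef
  refine ⟨s.step i, hc _, fun U hU hSU => ?_⟩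
  suffices key : ∀ (j : ℕ) (hj : j < s.length + 1), i.val + 1 ≤ j →
      ∀ U : Subobject E, IsCohSub U → S < U → U ≤ s ⟨j, hj⟩ →
      RedLE d (pl k L d ℓ S U) (pl k L d ℓ S T) ∧ (RedEq d (pl k L d ℓ S U) (pl k L d ℓ S T) → U ≤ T) from
    key s.length (Nat.lt_succ_self _) i.isLt U hU hSU (le_top.trans_eq hlast.symm)
  intro j
  induction j with
  | zero => intro hj h; omega
  | succ j ih =>
    intro hj hij U hU hSU hUj
    have hjl : j < s.length := by omega
    let jj : Fin s.length := ⟨j, hjl⟩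
    rcases Nat.eq_or_lt_of_le hij with he | hlt
    · have hT' : s ⟨j + 1, hj⟩ = T := congrArg s.toFun (Fin.ext (by simp [← he]))
      refine ⟨?_, fun _ => hUj.trans_eq hT'⟩
      have hss := hs.1 i (s.step i).le
      let κ : quo hSU.le ⟶ quo (s.step i).le :=
        (quoMap hSU.le (hUj.trans_eq hT') : quo hSU.le ⟶ quo (s.step i).le)
      haveI : Mono κ := mono_quoMap _ _
      have h1 := redLE_of_mono_isEll k hL hss κ (isCoh_quo hSU.le (hc _) hU)
      rwa [tl_quo k hL hSU.le (hc _) hU, tl_quo k hL _ (hc _) (hc _)] at h1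
    · have hjj : i.val + 1 ≤ j := by omega
      let A := s jj.castSucc
      let B := s jj.succ
      have hA : IsCohSub A := hc _
      have hUB : U ≤ B := hUj
      by_cases hUA : U ≤ A
      · exact ih (by omega) hjj U hU hSU hUA
      have hSA : S ≤ A := s.monotone (show i.castSucc ≤ jj.castSucc from by
        rw [Fin.le_def]; simp only [Fin.val_castSucc, jj]; omega)
      have hsup := isCohSub_sup k hE hU hA
      have hinf := isCohSub_inf k hE hU hA
      have hAlt : A < U ⊔ A := lt_of_le_of_ne le_sup_right fun e => hUA (e.symm ▸ le_sup_left)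
      have hss := hs.1 jj (s.step jj).le
      let κ : quo hAlt.le ⟶ quo (s.step jj).le :=
        (quoMap hAlt.le (sup_le hUB (s.step jj).le) : quo hAlt.le ⟶ quo (s.step jj).le)
      haveI : Mono κ := mono_quoMap _ _
      have hq := redLE_of_mono_isEll k hL hss κ (isCoh_quo hAlt.le hA hsup)
      rw [tl_quo k hL hAlt.le hA hsup, tl_quo k hL _ (hc _) (hc _)] at hq
      have hsplit : pl k L d ℓ S U = pl k L d ℓ S (U ⊓ A) + pl k L d ℓ A (U ⊔ A) := by
        have := ts_inf_add_sup k hL (d := d) (ℓ := ℓ) hE hU hA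
        simp only [pl]
        linear_combination -this
      have hpA : 0 < alpha d (pl k L d ℓ A B) := alpha_pd_pos k hL _ (hc _) (hc _) hss
      have hpq : 0 ≤ alpha d (pl k L d ℓ A (U ⊔ A)) := by
        rw [show pl k L d ℓ A (U ⊔ A) = tl k L d ℓ (quo hAlt.le) from (tl_quo k hL hAlt.le hA hsup).symm]
        rw [alpha_tl]
        exact alpha_hilb_nonneg k hL (isCoh_quo hAlt.le hA hsup)
          (dim_le_of_mono κ (dim_of_isPure hss.1 hss.2.1 hss.2.2.1).le)
      have hq' : RedLT d (pl k L d ℓ A (U ⊔ A)) (pl k L d ℓ S T) := by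
        have hslope : RedLT d (pl k L d ℓ A B) (pl k L d ℓ S T) :=
          slope_mono k hL s hs hc i jj (by show i.val < j; omega)
        have hqpos : 0 < alpha d (pl k L d ℓ A (U ⊔ A)) := by
          rw [show pl k L d ℓ A (U ⊔ A) = tl k L d ℓ (quo hAlt.le) from (tl_quo k hL hAlt.le hA hsup).symm]
          rw [alpha_tl]
          exact alpha_hilb_pos k hL (isCoh_quo hAlt.le hA hsup)
            (hss.2.2.1 _ κ inferInstance (isCoh_quo hAlt.le hA hsup) (not_isZero_quo hAlt))
        exact redLT_of_le_of_lt hqpos hpA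
          (alpha_pd_pos k hL _ (hc _) (hc _) (hs.1 i (s.step i).le)).le hq hslope
      have hinf' : RedLE d (pl k L d ℓ S (U ⊓ A)) (pl k L d ℓ S T) := by
        rcases (le_inf hSU.le hSA : S ≤ U ⊓ A).eq_or_lt with e | hlt'
        · rw [← e]
          show StabCat.PolyLE _ _
          simp [pl, alpha, polyLE_refl]
        · exact (ih (by omega) hjj _ hinf hlt' inf_le_right).1
      have hstrict : RedLT d (pl k L d ℓ S U) (pl k L d ℓ S T) := hsplit ▸ redLT_sum hinf' hq'
      exact ⟨redLE_of_lt hstrict, fun he =>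
        absurd hstrict (not_redLT_of_le (redLE_of_eq (redEq_symm he)))⟩

end Groth.Agent.ShStabLib.Ell
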