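import Groth.Agent.ShStabLib.Ell.Basic

/-!
# The maximal `ℓ`-destabilising submodule of a pure coherent module
-/

universe u

open CategoryTheory CategoryTheory.Limits AlgebraicGeometry TopologicalSpace
open StabCat (alpha RedLE RedLT RedEq topPart hatSlope)
open Groth.Agent.HilbPolyX
open Groth.Agent.CohDerLib.SubobjJH (second_iso)

set_option linter.style.haveILetI false

noncomputable section

namespace Groth.Agent.ShStabLib.Ell

variable {X : Scheme.{u}} {E : X.Modules} {d ℓ : ℕ}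
variable (k : Type u) [Field k] [X.Over (Spec (CommRingCat.of k))]
  [IsProper (X ↘ Spec (CommRingCat.of k))] {L : X.Modules} (hL : CohB1.IsAmple L)
variable (hE : Coh.IsCoh E) (hp : ShStab.IsPure X E d)

/-- Maximality for "contains and has at least the reduced Hilbert polynomial". -/
def IsMaxl (L : X.Modules) (d ℓ : ℕ) (T : Subobject E) : Prop :=
  IsCohSub T ∧ T ≠ ⊥ ∧
    ∀ T' : Subobject E, IsCohSub T' → T < T' → RedLT d (ts k L d ℓ T') (ts k L d ℓ T)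

include hL hE hp in
theorem exists_isMaxl_ge {S : Subobject E} (hS : IsCohSub S) (h0 : S ≠ ⊥) :
    ∃ T, IsMaxl k L d ℓ T ∧ S ≤ T ∧ RedLE d (ts k L d ℓ S) (ts k L d ℓ T) := by
  haveI := EulerChar.isNoetherian k (X := X)
  haveI := wellFoundedGT_cohSub hE
  obtain ⟨⟨T, hT⟩, ⟨hST, hle⟩, hmax⟩ := (wellFounded_gt (α := {S : Subobject E // IsCohSub S})).has_min
    {T | S ≤ T.1 ∧ RedLE d (ts k L d ℓ S) (ts k L d ℓ T.1)} ⟨⟨S, hS⟩, le_rfl, redLE_refl d _⟩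
  have hT0 : T ≠ ⊥ := ne_bot_of_le_ne_bot h0 hST
  refine ⟨T, ⟨hT, hT0, fun T' hT' hlt => ?_⟩, hST, hle⟩
  refine (redLE_or_lt d (ts k L d ℓ T) (ts k L d ℓ T')).resolve_left fun h => ?_
  exact hmax ⟨T', hT'⟩ ⟨hST.trans hlt.le, redLE_trans (ta_nonneg k hL (ℓ := ℓ) hp hS)
    (ta_pos k hL (ℓ := ℓ) hp hT hT0) (ta_nonneg k hL (ℓ := ℓ) hp hT') hle h⟩ hlt

include hL hE hp in
/-- A submodule not inside a maximal `F` with at least its slope meets `F` in something steeper. -/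
theorem lt_inf_of_not_le {F G : Subobject E} (hF : IsMaxl k L d ℓ F) (hG : IsCohSub G)
    (hG0 : G ≠ ⊥) (hGF : ¬ G ≤ F) (h : RedLE d (ts k L d ℓ F) (ts k L d ℓ G)) :
    G ⊓ F ≠ ⊥ ∧ RedLT d (ts k L d ℓ G) (ts k L d ℓ (G ⊓ F)) := by
  obtain ⟨hFc, hF0, hFm⟩ := hF
  have hsup := isCohSub_sup k hE hG hFc
  have hinf := isCohSub_inf k hE hG hFc
  have hlt : RedLT d (ts k L d ℓ (G ⊔ F)) (ts k L d ℓ F) :=
    hFm _ hsup (lt_of_le_of_ne le_sup_right fun e => hGF (e.symm ▸ le_sup_left))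
  have hadd := ts_inf_add_sup k hL (d := d) (ℓ := ℓ) hE hG hFc
  have ha : alpha d (ts k L d ℓ (G ⊓ F)) + alpha d (ts k L d ℓ (G ⊔ F)) =
      alpha d (ts k L d ℓ G) + alpha d (ts k L d ℓ F) := by rw [← alpha_add, hadd, alpha_add]
  have haF := ta_pos k hL (ℓ := ℓ) hp hFc hF0
  have haG := ta_pos k hL (ℓ := ℓ) hp hG hG0
  have hle := ta_mono k hL (ℓ := ℓ) hp (le_sup_right : F ≤ G ⊔ F) hFc hsup
  have key : RedLT d (ts k L d ℓ G) (ts k L d ℓ (G ⊓ F)) := by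
    obtain ⟨N, hN⟩ := h
    obtain ⟨M, hM⟩ := hlt
    refine ⟨max N M, fun m hm => ?_⟩
    have h1 := hN m (le_of_max_le_left hm)
    have h2 := hM m (le_of_max_le_right hm)
    have h3 := congrArg (Polynomial.eval (m : ℚ)) hadd
    simp only [Polynomial.eval_smul, Polynomial.eval_add, smul_eq_mul] at h1 h2 h3 ⊢
    refine lt_of_mul_lt_mul_left ?_ haF.le
    have h4 := mul_le_mul_of_nonneg_left h1
      (show (0 : ℚ) ≤ alpha d (ts k L d ℓ (G ⊔ F)) - alpha d (ts k L d ℓ F) by linarith)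
    have h5 := mul_lt_mul_of_pos_left h2 haG
    rw [show alpha d (ts k L d ℓ (G ⊓ F)) = alpha d (ts k L d ℓ G) + alpha d (ts k L d ℓ F) -
      alpha d (ts k L d ℓ (G ⊔ F)) by linarith]
    rw [show Polynomial.eval (m : ℚ) (ts k L d ℓ (G ⊓ F)) = Polynomial.eval (m : ℚ) (ts k L d ℓ G) +
      Polynomial.eval (m : ℚ) (ts k L d ℓ F) - Polynomial.eval (m : ℚ) (ts k L d ℓ (G ⊔ F)) by linarith]
    linarith
  refine ⟨fun e => ?_, key⟩
  rw [e, ts_bot k hL] at key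
  simp [RedLT, alpha, StabCat.PolyLT] at key
  obtain ⟨N, hN⟩ := key
  exact lt_irrefl N (hN N)

include hL hE hp in
/-- The maximal destabilising subobject. -/
theorem exists_maxDestab (h0 : ¬ IsZero E) :
    ∃ F : Subobject E, IsCohSub F ∧ F ≠ ⊥ ∧ ∀ G : Subobject E, IsCohSub G → G ≠ ⊥ →
      RedLE d (ts k L d ℓ G) (ts k L d ℓ F) ∧ (RedEq d (ts k L d ℓ G) (ts k L d ℓ F) → G ≤ F) := by
  classical
  haveI := EulerChar.isNoetherian k (X := X)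
  have htop : (⊤ : Subobject E) ≠ ⊥ := fun e => h0 ((isZero_bot (E := E)).of_iso
    ((asIso (⊤ : Subobject E).arrow).symm ≪≫ Subobject.isoOfEq _ _ e))
  obtain ⟨T, hT, -, -⟩ := exists_isMaxl_ge k hL hE hp (isCohSub_top hE) htop
  have hex : ∃ n : ℕ, ∃ F : Subobject E, IsMaxl k L d ℓ F ∧ alpha d (ts k L d ℓ F) = n := by
    obtain ⟨n, hn⟩ := exists_nat_ta k hL (ℓ := ℓ) hp hT.1
    exact ⟨n, T, hT, hn⟩
  obtain ⟨F, hF, hn⟩ := Nat.find_spec hex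
  have hmin : ∀ T : Subobject E, IsMaxl k L d ℓ T → alpha d (ts k L d ℓ F) ≤ alpha d (ts k L d ℓ T) := by
    intro T hT
    obtain ⟨n, hn'⟩ := exists_nat_ta k hL (ℓ := ℓ) hp hT.1
    rw [hn, hn']
    exact_mod_cast Nat.find_min' hex ⟨T, hT, hn'⟩
  obtain ⟨hFc, hF0, hFm⟩ := hF
  have haF := ta_pos k hL (ℓ := ℓ) hp hFc hF0
  -- nothing inside `F` is strictly steeper
  have inside : ∀ G : Subobject E, IsCohSub G → G ≠ ⊥ → G ≤ F →
      ¬ RedLT d (ts k L d ℓ F) (ts k L d ℓ G) := by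
    intro G hG hG0 hGF hlt
    haveI := wellFoundedGT_cohSub hE
    obtain ⟨⟨G₁, hG₁⟩, ⟨hGG₁, hG₁F, hle₁⟩, hmax⟩ :=
      (wellFounded_gt (α := {S : Subobject E // IsCohSub S})).has_min
        {T | G ≤ T.1 ∧ T.1 ≤ F ∧ RedLE d (ts k L d ℓ G) (ts k L d ℓ T.1)}
        ⟨⟨G, hG⟩, le_rfl, hGF, redLE_refl d _⟩
    have hG₁0 : G₁ ≠ ⊥ := ne_bot_of_le_ne_bot hG0 hGG₁
    have haG := ta_pos k hL (ℓ := ℓ) hp hG hG0
    have ha₁ := ta_pos k hL (ℓ := ℓ) hp hG₁ hG₁0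
    have hlt₁ : RedLT d (ts k L d ℓ F) (ts k L d ℓ G₁) := redLT_of_lt_of_le haF.le haG ha₁ hlt hle₁
    obtain ⟨G', hG', hG₁G', hle'⟩ := exists_isMaxl_ge k hL hE hp hG₁ hG₁0
    have ha' := ta_pos k hL (ℓ := ℓ) hp hG'.1 hG'.2.1
    have hFG' : RedLE d (ts k L d ℓ F) (ts k L d ℓ G') :=
      redLE_trans haF.le ha₁ ha'.le (redLE_of_lt hlt₁) hle'
    by_cases hin : G' ≤ F
    · have e : G₁ = G' := by
        by_contra hne
        exact hmax ⟨G', hG'.1⟩ ⟨hGG₁.trans hG₁G', hin,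
          redLE_trans haG.le ha₁ ha'.le hle₁ hle'⟩ (lt_of_le_of_ne hG₁G' fun he => hne (congrArg Subtype.val he))
      subst e
      have := le_antisymm (ta_mono k hL (ℓ := ℓ) hp hG₁F hG₁ hFc) (hmin G₁ hG')
      exact not_redLT_of_le (redLE_of_ta_eq k hL hp hG₁F hG₁ hFc this) hlt₁
    · obtain ⟨hJ0, hJ⟩ :=
        lt_inf_of_not_le k hL hE hp ⟨hFc, hF0, hFm⟩ hG'.1 hG'.2.1 hin hFG'
      have hJc := isCohSub_inf k hE hG'.1 hFc
      have haJ := ta_pos k hL (ℓ := ℓ) hp hJc hJ0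
      have hG₁J : RedLE d (ts k L d ℓ G₁) (ts k L d ℓ (G' ⊓ F)) :=
        redLE_of_lt (redLT_of_le_of_lt ha₁ ha' haJ.le hle' hJ)
      have hJmem : G ≤ G' ⊓ F := le_inf (hGG₁.trans hG₁G') hGF
      have e : G₁ = G' ⊓ F := by
        by_contra hne
        exact hmax ⟨G' ⊓ F, hJc⟩ ⟨hJmem, inf_le_right,
          redLE_trans haG.le ha₁ haJ.le hle₁ hG₁J⟩
          (lt_of_le_of_ne (le_inf hG₁G' hG₁F) fun he => hne (congrArg Subtype.val he))
      rw [← e] at hJ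
      exact not_redLT_of_le hle' hJ
  -- nothing outside `F` is as steep
  have outside : ∀ G : Subobject E, IsCohSub G → G ≠ ⊥ → ¬ G ≤ F →
      ¬ RedLE d (ts k L d ℓ F) (ts k L d ℓ G) := by
    intro G hG hG0 hGF h
    obtain ⟨hJ0, hJ⟩ := lt_inf_of_not_le k hL hE hp ⟨hFc, hF0, hFm⟩ hG hG0 hGF h
    have hJc := isCohSub_inf k hE hG hFc
    exact inside _ hJc hJ0 inf_le_right
      (redLT_of_le_of_lt haF (ta_pos k hL (ℓ := ℓ) hp hG hG0) (ta_nonneg k hL (ℓ := ℓ) hp hJc) h hJ)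
  refine ⟨F, hFc, hF0, fun G hG hG0 => ?_⟩
  by_cases hGF : G ≤ F
  · exact ⟨(redLE_or_lt d _ _).resolve_right (inside G hG hG0 hGF), fun _ => hGF⟩
  · refine ⟨redLE_of_lt ((redLE_or_lt d _ _).resolve_left (outside G hG hG0 hGF)), fun he => ?_⟩
    exact absurd (redLE_of_eq (redEq_symm he)) (outside G hG hG0 hGF)

end Groth.Agent.ShStabLib.Ell
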